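import Mathlib

/-!
# Models of finite type over `ℤ` of unramified algebras
-/

set_option autoImplicit false

universe u

namespace UnramModelLib

open MvPolynomial TensorProduct

variable {R : Type u} [CommRing R] {n : ℕ}

/-- The gradient of a polynomial. -/
noncomputable def grad (f : MvPolynomial (Fin n) R) : Fin n → MvPolynomial (Fin n) R :=
  fun l => pderiv l f

/-- Column vectors with entries in an ideal. -/
noncomputable def piIdeal (I : Ideal (MvPolynomial (Fin n) R)) :
    Submodule (MvPolynomial (Fin n) R) (Fin n → MvPolynomial (Fin n) R) :=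
  Submodule.pi Set.univ fun _ => I

/-- The Jacobian criterion witness for a set of equations. -/
def Good (F : Set (MvPolynomial (Fin n) R)) : Prop :=
  ∀ i, Pi.single i 1 ∈ Submodule.span (MvPolynomial (Fin n) R) (grad '' F) ⊔ piIdeal (Ideal.span F)

theorem good_self (I : Ideal (MvPolynomial (Fin n) R))
    [Algebra.FormallyUnramified R (MvPolynomial (Fin n) R ⧸ I)] :
    Good (I : Set (MvPolynomial (Fin n) R)) := by
  classical
  let P := MvPolynomial (Fin n) R
  let W : Submodule P (Fin n → P) := Submodule.span P (grad '' I) ⊔ piIdeal I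
  let M := (Fin n → P) ⧸ W
  let D : Derivation R P M := MvPolynomial.mkDerivation R fun l => Submodule.Quotient.mk (Pi.single l 1)
  have hDmk : ∀ f, D f = Submodule.Quotient.mk (grad f) := fun f => by
    induction f using MvPolynomial.induction_on with
    | C a =>
      rw [derivation_C]
      have : grad (C a : P) = 0 := by funext l; simp [grad]
      rw [this, Submodule.Quotient.mk_zero]
    | add p q hp hq =>
      rw [map_add, hp, hq, ← Submodule.Quotient.mk_add]
      congr 1
      funext l; simp [grad]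
    | mul_X p i hp =>
      rw [D.leibniz, hp, mkDerivation_X, ← Submodule.Quotient.mk_smul, ← Submodule.Quotient.mk_smul,
        ← Submodule.Quotient.mk_add]
      congr 1
      funext l
      by_cases hil : l = i
      · subst hil
        simp [grad, pderiv_X]
      · simp [grad, pderiv_X, hil]
  have hker : ∀ f ∈ I, D f = 0 := fun f hf => by
    rw [hDmk, Submodule.Quotient.mk_eq_zero]
    exact Submodule.mem_sup_left (Submodule.subset_span ⟨f, hf, rfl⟩)
  have hann : ∀ f ∈ I, ∀ m : M, f • m = 0 := fun f hf m => by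
    obtain ⟨v, rfl⟩ := Submodule.Quotient.mk_surjective _ m
    rw [← Submodule.Quotient.mk_smul, Submodule.Quotient.mk_eq_zero]
    exact Submodule.mem_sup_right fun l _ => I.mul_mem_right _ hf
  let _ : Module (P ⧸ I) M := Module.IsTorsionBySet.module (R := P) (I := I) fun m a => hann a a.2 m
  have hsmul : ∀ (p : P) (m : M), Ideal.Quotient.mk I p • m = p • m := fun p m => rfl
  have : IsScalarTower R (P ⧸ I) M := ⟨fun r a m => by
    obtain ⟨p, rfl⟩ := Ideal.Quotient.mk_surjective a
    show Ideal.Quotient.mk I (r • p) • m = r • Ideal.Quotient.mk I p • m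
    rw [hsmul, hsmul, smul_assoc]⟩
  let Dl : P ⧸ I →ₗ[R] M := (Submodule.liftQ (I.restrictScalars R) D.toLinearMap fun f hf => hker f hf).comp
    (Submodule.Quotient.restrictScalarsEquiv R I).symm.toLinearMap
  have hDl : ∀ p, Dl (Ideal.Quotient.mk I p) = D p := fun p => rfl
  let Dbar : Derivation R (P ⧸ I) M := Derivation.mk' Dl fun a b => by
    obtain ⟨p, rfl⟩ := Ideal.Quotient.mk_surjective a
    obtain ⟨q, rfl⟩ := Ideal.Quotient.mk_surjective b
    rw [← map_mul, hDl, hDl, hDl, hsmul, hsmul, D.leibniz]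
  have hD0 : Dbar = 0 := (KaehlerDifferential.linearMapEquivDerivation R (P ⧸ I)).symm.injective
    (LinearMap.ext fun x => by rw [Subsingleton.elim x 0, map_zero, map_zero])
  intro i
  rw [Ideal.span_eq, ← Submodule.Quotient.mk_eq_zero W]
  have h2 : D (X i) = 0 := (hDl (X i)).symm.trans (DFunLike.congr_fun hD0 (Ideal.Quotient.mk I (X i)))
  exact (mkDerivation_X R (fun l => (Submodule.Quotient.mk (Pi.single l 1) : M)) i).symm.trans h2

theorem Good.exists_finite {I : Ideal (MvPolynomial (Fin n) R)} (h : Good (I : Set (MvPolynomial (Fin n) R))) :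
    ∃ F : Finset (MvPolynomial (Fin n) R), (F : Set (MvPolynomial (Fin n) R)) ⊆ I ∧
      ∀ F' : Set (MvPolynomial (Fin n) R), (F : Set (MvPolynomial (Fin n) R)) ⊆ F' → Good F' := by
  classical
  unfold Good at h
  simp only [Submodule.mem_sup, Ideal.span_eq] at h
  choose x hx y hy hxy using h
  have hT : ∀ i, ∃ T : Finset (MvPolynomial (Fin n) R), (T : Set (MvPolynomial (Fin n) R)) ⊆ I ∧
      x i ∈ Submodule.span (MvPolynomial (Fin n) R) (grad '' T) := fun i => by
    obtain ⟨T, hT, hx'⟩ := Submodule.mem_span_finite_of_mem_span (hx i)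
    obtain ⟨T', hT', rfl⟩ := Finset.subset_set_image_iff.1 hT
    exact ⟨T', hT', by rwa [Finset.coe_image] at hx'⟩
  choose T hTI hT using hT
  refine ⟨Finset.univ.biUnion T ∪ Finset.univ.biUnion fun i => Finset.univ.image (y i), ?_,
    fun F' hF' i => ?_⟩
  · intro f hf
    simp only [Finset.coe_union, Set.mem_union, Finset.coe_biUnion, Finset.coe_univ, Set.mem_univ,
      Set.iUnion_true, Set.mem_iUnion, Finset.coe_image, Set.image_univ, Set.mem_range] at hf
    rcases hf with ⟨i, hi⟩ | ⟨i, l, rfl⟩
    · exact hTI i hi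
    · exact hy i l trivial
  · rw [← hxy i]
    refine Submodule.add_mem_sup (Submodule.span_mono (Set.image_mono ?_) (hT i)) fun l _ => ?_
    · exact fun f hf => hF' (Finset.mem_coe.2 (Finset.mem_union_left _ (Finset.mem_biUnion.2 ⟨i, Finset.mem_univ i, hf⟩)))
    · exact Ideal.subset_span (hF' (Finset.mem_coe.2 (Finset.mem_union_right _
        (Finset.mem_biUnion.2 ⟨i, Finset.mem_univ i, Finset.mem_image_of_mem _ (Finset.mem_univ l)⟩))))

theorem formallyUnramified_of_certificate {R₀ : Type u} [CommRing R₀] {m : ℕ}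
    (f : Fin m → MvPolynomial (Fin n) R₀) (c : Fin n → Fin m → MvPolynomial (Fin n) R₀)
    (h : Fin n → Fin n → Fin m → MvPolynomial (Fin n) R₀)
    (heq : ∀ i l, (Pi.single i 1 : Fin n → MvPolynomial (Fin n) R₀) l =
      ∑ j, c i j * pderiv l (f j) + ∑ j, h i l j * f j) :
    Algebra.FormallyUnramified R₀ (MvPolynomial (Fin n) R₀ ⧸ Ideal.span (Set.range f)) := by
  classical
  let P := MvPolynomial (Fin n) R₀
  set I : Ideal P := Ideal.span (Set.range f)
  let S := P ⧸ I
  let d : Derivation R₀ P (KaehlerDifferential R₀ S) :=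
    (KaehlerDifferential.D R₀ S).compAlgebraMap P
  have hgrad : ∀ p, d p = ∑ l, pderiv l p • d (X l) := fun p => by
    induction p using MvPolynomial.induction_on with
    | C a => rw [derivation_C]; simp
    | add p q hp hq => rw [map_add, hp, hq, ← Finset.sum_add_distrib]; simp [add_smul]
    | mul_X p i hp =>
      rw [d.leibniz, hp, Finset.smul_sum]
      simp [pderiv_X, add_smul, mul_smul, Pi.single_apply, Finset.sum_add_distrib, ite_smul]
  have hzero : ∀ p ∈ I, ∀ ω : KaehlerDifferential R₀ S, p • ω = 0 := fun p hp ω => by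
    rw [← algebraMap_smul S p, Ideal.Quotient.algebraMap_eq, Ideal.Quotient.eq_zero_iff_mem.2 hp]
    exact zero_smul S ω
  have hX : ∀ i, d (X i) = 0 := fun i => by
    calc d (X i) = ∑ l, (Pi.single i 1 : Fin n → P) l • d (X l) := by simp [Pi.single_apply, ite_smul]
      _ = ∑ l, (∑ j, c i j * pderiv l (f j)) • d (X l) := by
          refine Finset.sum_congr rfl fun l _ => ?_
          rw [heq, add_smul, hzero _ (Ideal.sum_mem _ fun j _ => Ideal.mul_mem_left _ _ (Ideal.subset_span (Set.mem_range_self j))),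
            add_zero]
      _ = ∑ j, c i j • d (f j) := by
          simp only [hgrad (f _), Finset.smul_sum, Finset.sum_smul, mul_smul]
          exact Finset.sum_comm
      _ = 0 := Finset.sum_eq_zero fun j _ => by
          show c i j • KaehlerDifferential.D R₀ S (Ideal.Quotient.mk I (f j)) = 0
          rw [Ideal.Quotient.eq_zero_iff_mem.2 (Ideal.subset_span (Set.mem_range_self j)), map_zero, smul_zero]
  refine ⟨⟨fun a b => ?_⟩⟩
  suffices hall : ∀ a : KaehlerDifferential R₀ S, a = 0 by rw [hall a, hall b]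
  intro a
  have ha : a ∈ Submodule.span S (Set.range (KaehlerDifferential.D R₀ S)) := by
    rw [KaehlerDifferential.span_range_derivation]; exact Submodule.mem_top
  induction ha using Submodule.span_induction with
  | mem x hx =>
    obtain ⟨s, rfl⟩ := hx
    obtain ⟨p, rfl⟩ := Ideal.Quotient.mk_surjective s
    show d p = 0
    rw [hgrad p]
    simp [hX]
  | zero => rfl
  | add x y _ _ hx hy => rw [hx, hy, add_zero]
  | smul c x _ hx => rw [hx, smul_zero]

/-- A set of equations satisfying the Jacobian criterion has a model over a finite type `ℤ`-algebra. -/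
theorem exists_model (F : Finset (MvPolynomial (Fin n) R)) (hF : Good (F : Set (MvPolynomial (Fin n) R))) :
    ∃ (R₀ : Subalgebra ℤ R), R₀.FG ∧ ∃ (m : ℕ) (f₀ : Fin m → MvPolynomial (Fin n) R₀),
      Algebra.FormallyUnramified R₀ (MvPolynomial (Fin n) R₀ ⧸ Ideal.span (Set.range f₀)) ∧
        Ideal.span (Set.range fun j => MvPolynomial.map (algebraMap R₀ R) (f₀ j)) = Ideal.span F := by
  classical
  obtain ⟨m, f, hf⟩ : ∃ (m : ℕ) (f : Fin m → MvPolynomial (Fin n) R),
      Set.range f = (F : Set (MvPolynomial (Fin n) R)) :=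
    ⟨F.card, fun j => (F.equivFin.symm j : MvPolynomial (Fin n) R), by
      rw [← Function.comp_def, Set.range_comp]
      simp⟩
  unfold Good at hF
  rw [← hf, ← Set.range_comp] at hF
  simp only [Submodule.mem_sup, Submodule.mem_span_range_iff_exists_fun] at hF
  choose x hx y hy hxy using hF
  choose c hc using hx
  choose h hh using fun i l => (Ideal.mem_span_range_iff_exists_fun).1 (hy i l trivial)
  let T : Finset R := (Finset.univ.biUnion fun j => (f j).coeffs) ∪
    (Finset.univ.biUnion fun p : Fin n × Fin m => (c p.1 p.2).coeffs) ∪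
      (Finset.univ.biUnion fun p : Fin n × Fin n × Fin m => (h p.1 p.2.1 p.2.2).coeffs)
  let R₀ : Subalgebra ℤ R := Algebra.adjoin ℤ (T : Set R)
  have hlift : ∀ p : MvPolynomial (Fin n) R, p.coeffs ⊆ T →
      ∃ q : MvPolynomial (Fin n) R₀, MvPolynomial.map (algebraMap R₀ R) q = p := fun p hp => by
    show p ∈ Set.range (MvPolynomial.map (algebraMap R₀ R))
    rw [MvPolynomial.mem_range_map_iff_coeffs_subset]
    exact fun r hr => ⟨⟨r, Algebra.subset_adjoin (hp hr)⟩, rfl⟩
  choose f₀ hf₀ using fun j => hlift (f j) fun r hr => Finset.mem_union_left _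
    (Finset.mem_union_left _ (Finset.mem_biUnion.2 ⟨j, Finset.mem_univ _, hr⟩))
  choose c₀ hc₀ using fun i j => hlift (c i j) fun r hr => Finset.mem_union_left _
    (Finset.mem_union_right _ (Finset.mem_biUnion.2 ⟨(i, j), Finset.mem_univ _, hr⟩))
  choose h₀ hh₀ using fun i l j => hlift (h i l j) fun r hr => Finset.mem_union_right _
    (Finset.mem_biUnion.2 ⟨(i, l, j), Finset.mem_univ _, hr⟩)
  refine ⟨R₀, Subalgebra.fg_adjoin_finset T, m, f₀,
    formallyUnramified_of_certificate f₀ c₀ h₀ fun i l => ?_, ?_⟩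
  · apply MvPolynomial.map_injective (algebraMap R₀ R) Subtype.val_injective
    simp only [map_add, map_sum, map_mul, ← pderiv_map, hf₀, hc₀, hh₀]
    have h1 := congrFun (hxy i) l
    rw [← hc i, Pi.add_apply, Finset.sum_apply, ← hh i l] at h1
    simp only [Function.comp_apply, Pi.smul_apply, grad, smul_eq_mul] at h1
    rw [h1]
    by_cases hil : l = i <;> simp [hil, Pi.single_apply]
  · simp only [hf₀, hf]

/-- Base change of a quotient of a polynomial ring. -/
noncomputable def baseChangeQuotient (R₀ : Type u) [CommRing R₀] [Algebra R₀ R] {m : ℕ}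
    (f₀ : Fin m → MvPolynomial (Fin n) R₀) :
    R ⊗[R₀] (MvPolynomial (Fin n) R₀ ⧸ Ideal.span (Set.range f₀)) ≃ₐ[R]
      MvPolynomial (Fin n) R ⧸ Ideal.span (Set.range fun j => MvPolynomial.map (algebraMap R₀ R) (f₀ j)) :=
  (Algebra.TensorProduct.tensorQuotientEquiv (R := R₀) R (MvPolynomial (Fin n) R₀) R _).trans
    (Ideal.quotientEquivAlg _ _ (MvPolynomial.algebraTensorAlgEquiv R₀ R) (by
      rw [Ideal.map_span, Ideal.map_span, ← Set.range_comp, ← Set.range_comp]
      congr 2
      funext j
      simp [MvPolynomial.algebraTensorAlgEquiv_tmul]))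

theorem exists_model_of_finitePresentation (S : Type u) [CommRing S] [Algebra R S]
    [Algebra.FinitePresentation R S] [Algebra.FormallyUnramified R S] :
    ∃ (R₀ : Type u) (_ : CommRing R₀) (_ : Algebra.FiniteType ℤ R₀) (S₀ : Type u) (_ : CommRing S₀)
      (_ : Algebra R₀ S₀) (_ : Algebra.FinitePresentation R₀ S₀) (_ : Algebra.FormallyUnramified R₀ S₀)
      (_ : Algebra R₀ R), Nonempty (R ⊗[R₀] S₀ ≃ₐ[R] S) := by
  classical
  obtain ⟨n, π, hπ, hfg⟩ := Algebra.FinitePresentation.out (R := R) (A := S)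
  let e := Ideal.quotientKerAlgEquivOfSurjective hπ
  have : Algebra.FormallyUnramified R (MvPolynomial (Fin n) R ⧸ RingHom.ker π) :=
    Algebra.FormallyUnramified.of_equiv e.symm
  obtain ⟨F, hFI, hF⟩ := (good_self (RingHom.ker π)).exists_finite
  obtain ⟨G, hG⟩ := hfg
  have hspan : Ideal.span ((F ∪ G : Finset (MvPolynomial (Fin n) R)) : Set (MvPolynomial (Fin n) R)) =
      RingHom.ker π := by
    refine le_antisymm (Ideal.span_le.2 ?_) (hG.ge.trans (Ideal.span_mono (by simp)))
    rw [Finset.coe_union]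
    exact Set.union_subset hFI (Ideal.subset_span.trans hG.le)
  obtain ⟨R₀, hR₀, m, f₀, hunr, hspan₀⟩ := exists_model (F ∪ G) (hF _ (by simp))
  refine ⟨R₀, inferInstance, (Subalgebra.fg_iff_finiteType _).1 hR₀,
    MvPolynomial (Fin n) R₀ ⧸ Ideal.span (Set.range f₀), inferInstance, inferInstance,
    Algebra.FinitePresentation.quotient (Submodule.fg_span (Set.finite_range f₀)), hunr, inferInstance,
    ⟨(baseChangeQuotient R₀ f₀).trans ((Ideal.quotientEquivAlgOfEq R (hspan₀.trans hspan)).trans e)⟩⟩

theorem exists_model_of_unramified (S : Type u) [CommRing S] [Algebra R S] [Algebra.Unramified R S] :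
    ∃ (R₀ : Type u) (_ : CommRing R₀) (_ : Algebra.FiniteType ℤ R₀) (S₀ : Type u) (_ : CommRing S₀)
      (_ : Algebra R₀ S₀) (_ : Algebra.Unramified R₀ S₀) (_ : Algebra R₀ R)
      (ψ : R ⊗[R₀] S₀ →ₐ[R] S), Function.Surjective ψ := by
  classical
  obtain ⟨n, π, hπ⟩ := Algebra.FiniteType.iff_quotient_mvPolynomial''.1
    (inferInstance : Algebra.FiniteType R S)
  let e := Ideal.quotientKerAlgEquivOfSurjective hπ
  have : Algebra.FormallyUnramified R (MvPolynomial (Fin n) R ⧸ RingHom.ker π) :=
    Algebra.FormallyUnramified.of_equiv e.symm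
  obtain ⟨F, hFI, hF⟩ := (good_self (RingHom.ker π)).exists_finite
  obtain ⟨R₀, hR₀, m, f₀, hunr, hspan₀⟩ := exists_model F (hF _ subset_rfl)
  have hle : Ideal.span (Set.range fun j => MvPolynomial.map (algebraMap R₀ R) (f₀ j)) ≤ RingHom.ker π :=
    hspan₀.le.trans (Ideal.span_le.2 hFI)
  refine ⟨R₀, inferInstance, (Subalgebra.fg_iff_finiteType _).1 hR₀,
    MvPolynomial (Fin n) R₀ ⧸ Ideal.span (Set.range f₀), inferInstance, inferInstance,
    ⟨hunr, inferInstance⟩, inferInstance,
    (e.toAlgHom.comp (Ideal.Quotient.factorₐ R hle)).comp (baseChangeQuotient R₀ f₀).toAlgHom, ?_⟩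
  exact (e.surjective.comp (Ideal.Quotient.factor_surjective hle)).comp (baseChangeQuotient R₀ f₀).surjective

end UnramModelLib
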